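import Groth.Agent.Lib.DBaseChange.ResTensor
import Groth.Agent.Lib.DBaseChange.TensorValue
import Groth.Agent.Lib.DCpl.RHom
import Groth.Agent.Lib.DCpl.CplTriangle
import Groth.Agent.Lib.DCpl.Derived
import Groth.Agent.Lib.DMod.PCModule
import Mathlib.CategoryTheory.Functor.Derived.PointwiseLeftDerived
import Mathlib.RingTheory.Flat.CategoryTheory

/-!
# Derived completion and tensoring with complexes of finite free modules
-/

set_option autoImplicit false
set_option linter.style.haveILetI false
set_option backward.isDefEq.respectTransparency false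
set_option maxHeartbeats 400000

universe u

open CategoryTheory CategoryTheory.Limits CategoryTheory.Pretriangulated MonoidalCategory
open scoped TensorProduct

attribute [local instance] HasDerivedCategory.standard

namespace Groth.Agent.DCplTensor9

open Groth.Agent.DCpl Groth.Agent.DBaseChange Groth.Agent.KFlat Groth.Agent.KFlat.Module

variable {A : Type u} [CommRing A] {f : A}

/-- Extensions of derived complete objects. -/
theorem dcd_triangle₂ {T : Triangle (Dual.D A)} (hT : T ∈ distTriang (Dual.D A)) (h₁ : DCD T.obj₁ f)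
    (h₃ : DCD T.obj₃ f) : DCD T.obj₂ f :=
  DCD.triangle₃ (T := T.invRotate) (inv_rot_of_distTriang _ hT) (h₃.shift (-1)) h₁

/-- Tensoring a complete complex with a finite free module. -/
theorem dc_homology_tensor (M : ModuleCat.{u} A) [Module.Finite A M] [Module.Free A M]
    (L : DRing.Cx A) (hL : DCD (DRing.toD L) f) :
    DCD (DRing.toD (((tensorRight M).mapHomologicalComplex (ComplexShape.up ℤ)).obj L)) f := by
  intro i
  haveI : PreservesFiniteLimits (tensorRight M) := _root_.Module.Flat.iff_preservesFiniteLimits_tensorRight M |>.1 inferInstance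
  have h1 : DC ((Dual.HD A (DRing.toD L) i) ⊗[A] M) f := by
    let b := Module.Free.chooseBasis A M
    exact (DC.pi fun _ : Module.Free.ChooseBasisIndex A M => hL i).of_linearEquiv
      ((LinearEquiv.lTensor _ b.equivFun).trans
        (TensorProduct.piScalarRight A A _ (Module.Free.ChooseBasisIndex A M))).symm
  exact h1.of_linearEquiv (((tensorRight M).mapIso
    ((DerivedCategory.homologyFunctorFactors (ModuleCat.{u} A) i).app L)) ≪≫
    ((L.sc i).mapHomologyIso (tensorRight M)).symm ≪≫
    ((DerivedCategory.homologyFunctorFactors (ModuleCat.{u} A) i).app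
      (((tensorRight M).mapHomologicalComplex (ComplexShape.up ℤ)).obj L)).symm).toLinearEquiv

/-- Tensoring a complete complex with a bounded complex of finite free modules. -/
theorem dcd_tensor_bounded (L : DRing.Cx A) (hL : DCD (DRing.toD L) f) (E : DRing.Cx A) (a b : ℤ)
    (hv : DRing.VanishesOutside E a b) (hE : DRing.TermwiseFiniteFree E) :
    DCD (DRing.toD (E ⊗ L)) f := by
  refine DMod.bounded_induction (Q := fun E => DCD (DRing.toD (E ⊗ L)) f)
    (p := fun _ M => Module.Finite A M ∧ Module.Free A M)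
    (fun E hz => ?_) (fun E n hn hp => ?_) (fun E n h₁ h₂ => ?_)
    (fun n M N e h => DMod.modClass_finiteFree.equiv e.toLinearEquiv h) E a b hv (fun i _ _ => hE i)
  · intro i
    have : IsZero (DRing.toD (E ⊗ L)) := by
      refine Functor.map_isZero DerivedCategory.Q ?_
      have hE0 : IsZero E := by
        rw [IsZero.iff_id_eq_zero]
        ext i : 1
        exact (hz i).eq_of_src _ _
      exact Functor.map_isZero ((tcx (TM A)).flip.obj L) hE0
    haveI := ModuleCat.subsingleton_of_isZero ((DerivedCategory.homologyFunctor (ModuleCat.{u} A) i).map_isZero this)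
    exact DC.of_subsingleton
  · haveI := ((DMod.vanishesOutside_iff E n n).1 hn).1
    haveI := ((DMod.vanishesOutside_iff E n n).1 hn).2
    obtain ⟨M, ⟨e⟩⟩ := CochainComplex.exists_iso_single E n
    let eX : E.X n ≅ M := (HomologicalComplex.eval _ _ n).mapIso e ≪≫
      HomologicalComplex.singleObjXSelf (ComplexShape.up ℤ) n M
    haveI : Module.Finite A M := (DMod.modClass_finiteFree.equiv eX.toLinearEquiv hp).1
    haveI : Module.Free A M := (DMod.modClass_finiteFree.equiv eX.toLinearEquiv hp).2
    let S0 : DRing.Cx A := (HomologicalComplex.single _ (ComplexShape.up ℤ) 0).obj M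
    let es : E ≅ (shiftFunctor (DRing.Cx A) (-n)).obj S0 :=
      e ≪≫ (((CochainComplex.singleFunctors (ModuleCat.{u} A)).shiftIso (-n) n 0 (neg_add_cancel n)).app M).symm
    let et : E ⊗ L ≅ (shiftFunctor (DRing.Cx A) (-n)).obj ((tm M).obj L) :=
      (((tcx (TM A)).flip.obj L).mapIso es) ≪≫
        CochainComplex.mapBifunctorShift₁Iso S0 L (TM A) (-n) ≪≫
        (shiftFunctor (DRing.Cx A) (-n)).mapIso (singleTensorIso M L)
    exact ((dc_homology_tensor M L hL).shift (-n)).of_iso
      ((DMod.toDShiftIso _ (-n)).symm ≪≫ DerivedCategory.Q.mapIso et.symm)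
  · let T : ShortComplex (DRing.Cx A) := ShortComplex.mk (DMod.subι E (DMod.geSub E n) (DMod.geSub_stable E n))
      (DMod.quotπ E (DMod.geSub E n) (DMod.geSub_stable E n)) (by
        ext i x
        exact (Submodule.Quotient.mk_eq_zero (DMod.geSub E n i)).2 x.2)
    have hT : (T.map ((tcx (TM A)).flip.obj L)).ShortExact :=
      (splitPres_right (TM A) L).shortExact T (geSub_splitting E n)
    exact dcd_triangle₂ (DerivedCategory.triangleOfSES_distinguished hT) h₁ h₂

/-- Tensoring a complete bounded above complex with a bounded above complex of finite free modules. -/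
theorem dcd_tensor (L : DRing.Cx A) (b : ℤ) [L.IsStrictlyLE b] (hL : DCD (DRing.toD L) f)
    (F : DRing.Cx A) (c : ℤ) [F.IsStrictlyLE c] (hF : DRing.TermwiseFiniteFree F) :
    DCD (DRing.toD (F ⊗ L)) f := by
  intro i
  let m : ℤ := i - b - 1
  let T : ShortComplex (DRing.Cx A) := ShortComplex.mk (DMod.subι F (DMod.geSub F m) (DMod.geSub_stable F m))
    (DMod.quotπ F (DMod.geSub F m) (DMod.geSub_stable F m)) (by
      ext i x
      exact (Submodule.Quotient.mk_eq_zero (DMod.geSub F m i)).2 x.2)
  have hT : (T.map ((tcx (TM A)).flip.obj L)).ShortExact :=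
    (splitPres_right (TM A) L).shortExact T (geSub_splitting F m)
  have hv : DRing.VanishesOutside (DMod.sigmaGE F m) m c := fun j hj => by
    rcases hj with hj | hj
    · exact (DMod.sigmaGE F m).isZero_of_isStrictlyGE m j hj
    · haveI := ModuleCat.subsingleton_of_isZero (F.isZero_of_isStrictlyLE c j hj)
      exact (ModuleCat.isZero_iff_subsingleton).2 (inferInstanceAs (Subsingleton (DMod.geSub F m j)))
  have h1 : DC (Dual.HD A (DRing.toD (DMod.sigmaGE F m ⊗ L)) i) f :=
    dcd_tensor_bounded L hL _ m c hv (DMod.sigmaGE_mem DMod.modClass_finiteFree hF m) i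
  haveI := DMod.isStrictlyLE_sigmaLT F m (m - 1) (by omega)
  haveI hLE : ((DMod.sigmaLT F m ⊗ L : DRing.Cx A)).IsStrictlyLE (i - 2) :=
    (CochainComplex.isStrictlyLE_iff _ _).2 fun j hj => isZero_tensor_X j fun p q hpq => by
      by_cases hp : m - 1 < p
      · exact Or.inl ((DMod.sigmaLT F m).isZero_of_isStrictlyLE (m - 1) p hp)
      · exact Or.inr (L.isZero_of_isStrictlyLE b q (by omega))
  haveI : (DRing.toD (DMod.sigmaLT F m ⊗ L)).IsLE (i - 2) :=
    inferInstanceAs ((DerivedCategory.Q.obj (DMod.sigmaLT F m ⊗ L : DRing.Cx A)).IsLE (i - 2))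
  have hz : ∀ j, i - 2 < j → IsZero ((DMod.HH j).obj (DRing.toD (DMod.sigmaLT F m ⊗ L))) :=
    fun j hj => DerivedCategory.isZero_of_isLE _ (i - 2) j hj
  have hd := DerivedCategory.triangleOfSES_distinguished hT
  haveI : Mono ((DMod.HH i).map (DerivedCategory.triangleOfSES hT).mor₁) :=
    (DerivedCategory.HomologySequence.exact₁ _ hd (i - 1) i (by omega)).mono_g
      ((hz (i - 1) (by omega)).eq_of_src _ _)
  haveI : Epi ((DMod.HH i).map (DerivedCategory.triangleOfSES hT).mor₁) :=
    (DerivedCategory.HomologySequence.exact₂ _ hd i).epi_f ((hz i (by omega)).eq_of_tgt _ _)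
  exact h1.of_linearEquiv (@asIso _ _ _ _ ((DMod.HH i).map (DerivedCategory.triangleOfSES hT).mor₁)
    (isIso_of_mono_of_epi _)).toLinearEquiv

variable (F : DRing.Cx A) [F.IsKProjective] [DRing.HasLTensorCx A F] [DTen.HasLTen A]

/-- The two derived tensor products with a K-projective complex agree. -/
theorem nonempty_lTensorCx_natIso :
    Nonempty (DRing.LTensorCx A F ≅ DTen.tensorRightD A (DerivedCategory.Q.obj F)) := by
  let G := DTen.tensorRightD A (DerivedCategory.Q.obj F)
  let e : DerivedCategory.Q ⋙ G ≅ DRing.tensorCxQ A F := (HomD.fdIso F).symm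
  haveI : G.IsLeftDerivedFunctor e.hom (HomologicalComplex.quasiIso (ModuleCat.{u} A) (ComplexShape.up ℤ)) :=
    Functor.isLeftDerivedFunctor_of_inverts _ G e
  exact ⟨(Functor.leftDerivedUnique (DRing.LTensorCx A F) G e.hom
    ((DRing.tensorCxQ A F).totalLeftDerivedCounit DerivedCategory.Q
      (HomologicalComplex.quasiIso (ModuleCat.{u} A) (ComplexShape.up ℤ)))
    (HomologicalComplex.quasiIso (ModuleCat.{u} A) (ComplexShape.up ℤ))).symm⟩

omit [DTen.HasLTen A] in
/-- The universal property. -/
theorem bijective_comp {I : Ideal A} {K C : Dual.D A} {η : K ⟶ C} (h : IsCpl (I : Set A) η) (E : Dual.D A)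
    (hE : DRing.IsDerivedComplete I E) :
    Function.Bijective (fun φ : (DRing.LTensorCx A F).obj C ⟶ E => (DRing.LTensorCx A F).map η ≫ φ) := by
  haveI : DTen.HasLTen A := Groth.Agent.KFlat.DT.hasLTen
  obtain ⟨t⟩ := nonempty_lTensorCx_natIso F
  let adj := (HomD.adjD F).ofNatIsoLeft t.symm
  have hb := h.2 ((HomD.Gd F).obj E) fun g hg => dcd_gd g F ((isDerivedComplete_iff I E).1 hE g hg)
  have : (fun φ : (DRing.LTensorCx A F).obj C ⟶ E => (DRing.LTensorCx A F).map η ≫ φ) =
      (adj.homEquiv K E).symm ∘ (fun s => η ≫ s) ∘ adj.homEquiv C E := by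
    funext φ
    simp [Adjunction.homEquiv_naturality_left_symm]
  rw [this]
  exact (adj.homEquiv K E).symm.bijective.comp (hb.comp (adj.homEquiv C E).bijective)

omit [DTen.HasLTen A] in
/-- Completion commutes with tensoring by bounded above finite free complexes. -/
theorem main [IsNoetherianRing A] (I : Ideal A) [DRing.HasDerivedCompletion I] (c : ℤ) [F.IsStrictlyLE c]
    (hF : DRing.TermwiseFiniteFree F) (K : Dual.D A) (b : ℤ)
    (hK : ∀ i : ℤ, b < i → Subsingleton (Dual.HD A K i)) :
    DRing.IsDerivedComplete I ((DRing.LTensorCx A F).obj ((DRing.derivedCompletion I).obj K).obj) ∧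
      ∀ E : Dual.D A, DRing.IsDerivedComplete I E →
        Function.Bijective (fun φ : (DRing.LTensorCx A F).obj ((DRing.derivedCompletion I).obj K).obj ⟶ E =>
          (DRing.LTensorCx A F).map (DRing.toDerivedCompletion I K) ≫ φ) := by
  refine ⟨?_, fun E hE => bijective_comp F (isCpl_unit I (I : Set A) (Ideal.span_eq I) K) E hE⟩
  obtain ⟨s, hs⟩ := DCpl.exists_list I (IsNoetherian.noetherian I)
  have hc := isCpl_unit I {g | g ∈ s} hs K
  haveI : (((DRing.derivedCompletion I).obj K).obj).IsLE b := (DMod.isLE_iff _ b).2 fun i hi =>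
    hc.subsingleton_hd i fun j hj _ => hK j (by omega)
  obtain ⟨E, hEb, hE, ⟨e⟩⟩ := DMod.exists_free_resolution ((DRing.derivedCompletion I).obj K).obj b
  haveI := hEb
  obtain ⟨t⟩ := nonempty_lTensorCx_iso F
    (isKFlat_of_boundedAbove E b fun i => haveI := hE i; inferInstance)
  rw [isDerivedComplete_iff]
  intro g hg
  exact (dcd_tensor E b ((show DCD ((DRing.derivedCompletion I).obj K).obj g from
      (isDerivedComplete_iff I _).1 ((DRing.derivedCompletion I).obj K).property g hg).of_iso e.symm)
    F c hF).of_iso (DerivedCategory.Q.mapIso (DTen.braidCx F E) ≪≫ t.symm ≪≫ (DRing.LTensorCx A F).mapIso e)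

end Groth.Agent.DCplTensor9
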