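import Groth.Agent.Lib.DCplTensor9.Basic
import Groth.Agent.Lib.DBaseChange.TorAmp
import Groth.Agent.Lib.DMod.PCHomology
import Groth.Agent.Lib.RelPCS8.TensorAmp

/-!
# Derived completion and tensoring with a finite module
-/

set_option autoImplicit false
set_option linter.style.haveILetI false
set_option backward.isDefEq.respectTransparency false
set_option maxHeartbeats 400000

universe u

open CategoryTheory CategoryTheory.Limits CategoryTheory.Pretriangulated MonoidalCategory

attribute [local instance] HasDerivedCategory.standard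

namespace Groth.Agent.DCplTensor9

open Groth.Agent.DCpl Groth.Agent.DBaseChange Groth.Agent.KFlat Groth.Agent.KFlat.Module

variable {A : Type u} [CommRing A]

/-- Tensoring with a module in degree zero is termwise tensoring. -/
noncomputable def tmSingleIso (M : ModuleCat.{u} A) :
    tm M ≅ MonoidalCategory.tensorRight ((HomologicalComplex.single (ModuleCat.{u} A) (ComplexShape.up ℤ) 0).obj M : DRing.Cx A) :=
  NatIso.ofComponents
    (fun P => HomologicalComplex.Hom.isoOfComponents
      (fun p => singleTotalIso (T := TM A) P 0 M (add_zero p))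
      (fun i j hij => (singleTotalIso_d (T := TM A) P 0 M (add_zero i) (add_zero j) hij).symm))
    fun {P Q} φ => by
      refine HomologicalComplex.hom_ext _ _ fun n => ?_
      change ((TM A).map (φ.f n)).app M ≫ _ ≫ _ = (_ ≫ _) ≫
        (((tcx (TM A)).map φ).app ((HomologicalComplex.single (ModuleCat.{u} A) (ComplexShape.up ℤ) 0).obj M)).f n
      rw [Category.assoc, ι_tcx_map₁, ← Category.assoc, ← NatTrans.naturality, Category.assoc]

variable (M : ModuleCat.{u} A) [DRing.HasLTensor A M] [DTen.HasLTen A]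

/-- The derived tensor product with a module, through a resolution. -/
theorem nonempty_lTensor_natIso (F : DRing.Cx A) [F.IsKProjective]
    (g : F ⟶ (HomologicalComplex.single (ModuleCat.{u} A) (ComplexShape.up ℤ) 0).obj M) [QuasiIso g] :
    Nonempty (DRing.LTensor A M ≅ DTen.tensorRightD A (DerivedCategory.Q.obj F)) := by
  let q := HomotopyCategory.quotient (ModuleCat.{u} A) (ComplexShape.up ℤ)
  let α : (q ⋙ DerivedCategory.Qh) ⋙ DRing.LTensor A M ⟶ q ⋙ DRing.tensorKh A M :=
    (Functor.associator _ _ _).hom ≫ Functor.whiskerLeft _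
      ((DRing.tensorKh A M).totalLeftDerivedCounit DerivedCategory.Qh
        (HomotopyCategory.quasiIso (ModuleCat.{u} A) (ComplexShape.up ℤ)))
  have hk : (DRing.LTensor A M).IsRightKanExtension
      ((DRing.tensorKh A M).totalLeftDerivedCounit DerivedCategory.Qh
        (HomotopyCategory.quasiIso (ModuleCat.{u} A) (ComplexShape.up ℤ))) :=
    Functor.IsLeftDerivedFunctor.isRightKanExtension _ _
      (HomotopyCategory.quasiIso (ModuleCat.{u} A) (ComplexShape.up ℤ))
  haveI : (DRing.LTensor A M).IsLeftDerivedFunctor α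
      (HomologicalComplex.quasiIso (ModuleCat.{u} A) (ComplexShape.up ℤ)) :=
    ⟨isRightKanExtension_precomp _ (fun X => X.as) (fun _ => rfl) _ _⟩
  let Φ : Cover (ModuleCat.{u} A) := Module.cover
  have hα : ∀ P : DRing.Cx A, Adapted P → IsIso (α.app P) := fun P hP => KFlat.isIso_counit
    (W := HomologicalComplex.quasiIso (ModuleCat.{u} A) (ComplexShape.up ℤ))
    (resFunctor Φ) (resNatTrans Φ) (fun G => quasiIso_resπ Φ G) (q ⋙ DRing.tensorKh A M)
    (Adapted (A := A))
    (fun G => ⟨isKFlat_resObj Φ G isFlat_cover, isKFlat_flip_resObj Φ G isFlat_cover,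
      isFlat_resObj_X Φ G isFlat_cover⟩)
    (fun f hf hK hK' => have : QuasiIso f := hf; isIso_tm_map M f hK hK')
    (q ⋙ DerivedCategory.Qh) (DRing.LTensor A M) α P hP
  let G := DTen.tensorRightD A (DerivedCategory.Q.obj F)
  let eQ : q ⋙ DerivedCategory.Qh ≅ DerivedCategory.Q := DerivedCategory.quotientCompQhIso (ModuleCat.{u} A)
  let w := tmFactorIso M ≪≫ Functor.isoWhiskerRight (tmSingleIso M) DerivedCategory.Q
  let τ : tensorRight F ⋙ DerivedCategory.Q ⟶
      tensorRight ((HomologicalComplex.single (ModuleCat.{u} A) (ComplexShape.up ℤ) 0).obj M : DRing.Cx A) ⋙ DerivedCategory.Q :=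
    Functor.whiskerRight ((tensoringRight (DRing.Cx A)).map g) DerivedCategory.Q
  let β : (q ⋙ DerivedCategory.Qh) ⋙ G ⟶ q ⋙ DRing.tensorKh A M :=
    Functor.whiskerRight eQ.hom G ≫ (HomD.fdIso F).inv ≫ τ ≫ w.inv
  let γ := (DRing.LTensor A M).leftDerivedLift α
    (HomologicalComplex.quasiIso (ModuleCat.{u} A) (ComplexShape.up ℤ)) G β
  have hγ : ∀ X, IsIso (γ.app X) := by
    intro X
    haveI : DerivedCategory.Q.EssSurj := Localization.essSurj _ (HomologicalComplex.quasiIso (ModuleCat.{u} A) (ComplexShape.up ℤ))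
    let K : DRing.Cx A := (DerivedCategory.Q : DRing.Cx A ⥤ _).objPreimage X
    let P := (resFunctor Φ).obj K
    have hP : Adapted P := ⟨isKFlat_resObj Φ K isFlat_cover, isKFlat_flip_resObj Φ K isFlat_cover,
      isFlat_resObj_X Φ K isFlat_cover⟩
    haveI : QuasiIso ((resNatTrans Φ).app K) := quasiIso_resπ Φ K
    let e : (q ⋙ DerivedCategory.Qh).obj P ≅ X :=
      eQ.app P ≪≫ asIso (DerivedCategory.Q.map ((resNatTrans Φ).app K)) ≪≫
        (DerivedCategory.Q : DRing.Cx A ⥤ _).objObjPreimageIso X
    suffices IsIso (γ.app ((q ⋙ DerivedCategory.Qh).obj P)) from (NatTrans.isIso_app_iff_of_iso γ e).1 this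
    haveI := hα P hP
    haveI : QuasiIso (P ◁ g) := DT.quasiIso_whiskerLeft g ((Module.isKFlat_iff _).1 hP.1)
    haveI : IsIso (τ.app P) := inferInstanceAs (IsIso (DerivedCategory.Q.map (P ◁ g)))
    have h := Functor.leftDerived_fac_app (DRing.LTensor A M) α
      (HomologicalComplex.quasiIso (ModuleCat.{u} A) (ComplexShape.up ℤ)) G β P
    haveI : IsIso (β.app P) := by
      simp only [β, NatTrans.comp_app]
      infer_instance
    haveI : IsIso (γ.app ((q ⋙ DerivedCategory.Qh).obj P) ≫ α.app P) := by
      rw [show γ.app ((q ⋙ DerivedCategory.Qh).obj P) ≫ α.app P = β.app P from h]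
      infer_instance
    exact IsIso.of_isIso_comp_right (γ.app ((q ⋙ DerivedCategory.Qh).obj P)) (α.app P)
  haveI := NatIso.isIso_of_isIso_app γ
  exact ⟨(asIso γ).symm⟩

omit [DTen.HasLTen A] in
/-- Completion commutes with tensoring by finite modules. -/
theorem main_module [IsNoetherianRing A] (I : Ideal A) [DRing.HasDerivedCompletion I]
    (N : Type u) [AddCommGroup N] [_root_.Module A N] [_root_.Module.Finite A N]
    [DRing.HasLTensor A (ModuleCat.of A N)] (K : Dual.D A) (b : ℤ)
    (hK : ∀ i : ℤ, b < i → Subsingleton (Dual.HD A K i)) :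
    DRing.IsDerivedComplete I ((DRing.LTensor A (ModuleCat.of A N)).obj ((DRing.derivedCompletion I).obj K).obj) ∧
      ∀ E : Dual.D A, DRing.IsDerivedComplete I E →
        Function.Bijective (fun φ : (DRing.LTensor A (ModuleCat.of A N)).obj ((DRing.derivedCompletion I).obj K).obj ⟶ E =>
          (DRing.LTensor A (ModuleCat.of A N)).map (DRing.toDerivedCompletion I K) ≫ φ) := by
  haveI : DTen.HasLTen A := Groth.Agent.KFlat.DT.hasLTen
  let K₀ : Dual.D A := DerivedCategory.Q.obj
    ((HomologicalComplex.single (ModuleCat.{u} A) (ComplexShape.up ℤ) 0).obj (ModuleCat.of A N))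
  haveI : K₀.IsLE 0 := inferInstanceAs ((DerivedCategory.Q.obj _).IsLE 0)
  have hfin : ∀ i, _root_.Module.Finite A (Dual.HD A K₀ i) := fun i => by
    by_cases hi : i = 0
    · subst hi
      exact _root_.Module.Finite.equiv (((DerivedCategory.homologyFunctorFactors (ModuleCat.{u} A) 0).app _ ≪≫
        HomologicalComplex.singleObjHomologySelfIso (ComplexShape.up ℤ) 0 (ModuleCat.of A N)).toLinearEquiv.symm)
    · haveI : Subsingleton (Dual.HD A K₀ i) := ModuleCat.subsingleton_of_isZero
        (((HomologicalComplex.exactAt_iff_isZero_homology _ _).1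
          (HomologicalComplex.exactAt_single_obj (ComplexShape.up ℤ) 0 (ModuleCat.of A N) i hi)).of_iso
          ((DerivedCategory.homologyFunctorFactors (ModuleCat.{u} A) i).app _))
      infer_instance
  obtain ⟨F, hFb, hF, ⟨e⟩⟩ := DMod.exists_finite_free_resolution hfin
  haveI := (DMod.vanishesAbove_iff F 0).1 hFb
  haveI := DMod.isKProjective 0 fun i => haveI := (hF i).2; (inferInstance : _root_.Module.Projective A (F.X i))
  obtain ⟨g, hg⟩ := DMod.exists_map_eq e.hom
  haveI : QuasiIso g := by
    rw [← DerivedCategory.isIso_Q_map_iff_quasiIso, hg]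
    infer_instance
  haveI : DRing.HasLTensorCx A F := RelPCS8.TensorAmp.hasLTensorCx F
  obtain ⟨t⟩ := nonempty_lTensor_natIso (ModuleCat.of A N) F g
  obtain ⟨t'⟩ := nonempty_lTensorCx_natIso F
  let T := t ≪≫ t'.symm
  obtain ⟨h1, h2⟩ := main F I 0 hF K b hK
  refine ⟨(isDerivedComplete_iff I _).2 fun g' hg' =>
    (show DCD _ g' from (isDerivedComplete_iff I _).1 h1 g' hg').of_iso (T.app _).symm, fun E hE => ?_⟩
  have : (fun φ : (DRing.LTensor A (ModuleCat.of A N)).obj ((DRing.derivedCompletion I).obj K).obj ⟶ E =>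
      (DRing.LTensor A (ModuleCat.of A N)).map (DRing.toDerivedCompletion I K) ≫ φ) =
      (T.app K).symm.homFromEquiv ∘ (fun s => (DRing.LTensorCx A F).map (DRing.toDerivedCompletion I K) ≫ s) ∘
        (T.app _).homFromEquiv := by
    funext φ
    change _ = T.hom.app K ≫ (DRing.LTensorCx A F).map (DRing.toDerivedCompletion I K) ≫ T.inv.app _ ≫ φ
    rw [← T.hom.naturality_assoc (DRing.toDerivedCompletion I K)]
    exact (congrArg (_ ≫ ·) (Iso.hom_inv_id_app_assoc T _ φ)).symm
  rw [this]
  exact (Equiv.bijective _).comp ((h2 E hE).comp (Equiv.bijective _))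

end Groth.Agent.DCplTensor9
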